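import Mathlib
import Cfsg.Prelude.Def_KGroupFacts

set_option autoImplicit false

/-! # A triple cover from a labelled action on blocks

An abstract setup: a finite perfect group `G` acting on a set `P`, generated by two elements; `B`
blocks carrying subsets of `P` (permuted as the generators permute `P`), labels in `ZMod 3` of the
two generators on the blocks, and a system of lines (15 blocks with the structure of the nonzero
vectors of a 4-space over the field with two elements) with a function `K` on the pairs of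
positions of every line that the labelled generators transform by the sum of the labels over the
three blocks of a plane.  Then the subgroup generated by the two labelled generators in
`G × Perm (Fin B × ZMod 3)` is a stem extension of `G` with kernel of order three. -/

namespace Cfsg.Agent.Lib.Helper4.McLM

open scoped Pointwise

/-- positions on a line -/
def IsPos (u : ℕ) : Prop := 1 ≤ u ∧ u ≤ 15

theorem isPos_xor {u w : ℕ} (hu : IsPos u) (hw : IsPos w) (h : u ≠ w) : IsPos (u ^^^ w) := by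
  obtain ⟨hu1, hu2⟩ := hu
  obtain ⟨hw1, hw2⟩ := hw
  constructor
  · rcases Nat.eq_zero_or_pos (u ^^^ w) with h0 | h0
    · exact absurd (Nat.xor_eq_zero_iff.mp h0) h
    · exact h0
  · have : u ^^^ w < 2 ^ 4 := Nat.xor_lt_two_pow (by omega) (by omega)
    omega

/-- the data -/
structure Setup where
  G : Type
  [grp : Group G]
  [fin : Finite G]
  P : Type
  [act : MulAction G P]
  [decP : DecidableEq P]
  B : ℕ
  [nzB : NeZero B]
  gen : Fin 2 → G
  bet : Fin 2 → Equiv.Perm (Fin B)
  lab : Fin 2 → Fin B → ZMod 3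
  FS : Fin B → Finset P
  LP : ℕ → ℕ → Fin B
  K : ℕ → ℕ → ℕ → ZMod 3
  r0 : Fin B

attribute [instance] Setup.grp Setup.fin Setup.act Setup.decP Setup.nzB

namespace Setup

variable (S : Setup)

/-- the points of the cover -/
abbrev Om : Type := Fin S.B × ZMod 3

/-- the ambient group -/
abbrev W : Type := S.G × Equiv.Perm S.Om

/-- the labelled permutation of a generator -/
def X (k : Fin 2) : Equiv.Perm S.Om :=
  Equiv.prodShear (S.bet k) (fun i => Equiv.addRight (S.lab k i))

theorem X_apply (k : Fin 2) (i : Fin S.B) (c : ZMod 3) :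
    S.X k (i, c) = (S.bet k i, c + S.lab k i) := rfl

/-- the shift of the fibres -/
def zs (c : ZMod 3) : Equiv.Perm S.Om :=
  Equiv.prodShear (Equiv.refl _) (fun _ => Equiv.addRight c)

theorem zs_apply (c : ZMod 3) (q : S.Om) : S.zs c q = (q.1, q.2 + c) := rfl

/-- the two generators of the cover -/
def Gn (k : Fin 2) : S.W := (S.gen k, S.X k)

/-- the cover -/
def D : Subgroup S.W := Subgroup.closure {S.Gn 0, S.Gn 1}

/-- the invariant of a line, for a map `β` of the blocks with labels `φ` -/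
def P3 (β : Fin S.B → Fin S.B) (φ : Fin S.B → ZMod 3) : Prop :=
  ∀ ℓ < S.B, ∃ ℓ' < S.B, ∃ σ : ℕ → ℕ,
    (∀ u, IsPos u → IsPos (σ u) ∧ S.LP ℓ' (σ u) = β (S.LP ℓ u)) ∧
    (∀ u w, IsPos u → IsPos w → u ≠ w →
      σ (u ^^^ w) = σ u ^^^ σ w ∧
      S.K ℓ' (σ u) (σ w) =
        S.K ℓ u w + φ (S.LP ℓ u) + φ (S.LP ℓ w) + φ (S.LP ℓ (u ^^^ w)))

/-- the invariant of the elements of the cover -/
def Good (x : S.W) : Prop :=
  ∃ β : Fin S.B → Fin S.B, ∃ φ : Fin S.B → ZMod 3,
    Function.Injective β ∧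
    (∀ i c, x.2 (i, c) = (β i, c + φ i)) ∧
    (∀ i, ∀ p ∈ S.FS i, x.1 • p ∈ S.FS (β i)) ∧
    S.P3 β φ

/-- the hypotheses -/
structure Hyp : Prop where
  hgen : Subgroup.closure {S.gen 0, S.gen 1} = ⊤
  hperf : commutator S.G = ⊤
  FS_inj : Function.Injective S.FS
  FS_gen : ∀ k i, ∀ p ∈ S.FS i, S.gen k • p ∈ S.FS (S.bet k i)
  LP_inj : ∀ ℓ < S.B, ∀ u w, IsPos u → IsPos w → S.LP ℓ u = S.LP ℓ w → u = w
  line_eq : ∀ ℓ < S.B, ∀ ℓ' < S.B,
    (∀ u, IsPos u → ∃ u', IsPos u' ∧ S.LP ℓ' u' = S.LP ℓ u) → ℓ' = ℓ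
  P3_gen : ∀ k, S.P3 (S.bet k) (S.lab k)
  conn : ∀ f : Fin S.B → ZMod 3,
    (∀ ℓ < S.B, ∀ u w, IsPos u → IsPos w → f (S.LP ℓ u) = f (S.LP ℓ w)) → ∀ i, f i = f S.r0

end Setup

end Cfsg.Agent.Lib.Helper4.McLM
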