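import Cfsg.Agent.Lib.Helper4.McLM.Cov1

set_option autoImplicit false

/-! # The invariant of the cover is closed under products; the kernel theorem -/

namespace Cfsg.Agent.Lib.Helper4.McLM

theorem exists_third_fin : ∀ u w : Fin 16, u.val ≠ 0 → w.val ≠ 0 → u.val ≠ w.val →
    ∃ t : Fin 16, t.val ≠ 0 ∧ t.val ≠ u.val ∧ t.val ≠ w.val ∧ t.val ≠ u.val ^^^ w.val := by
  decide

theorem exists_third : ∀ u < 16, ∀ w < 16, u ≠ 0 → w ≠ 0 → u ≠ w →
    ∃ t < 16, t ≠ 0 ∧ t ≠ u ∧ t ≠ w ∧ t ≠ u ^^^ w := by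
  intro u hu w hw h1 h2 h3
  obtain ⟨t, ht⟩ := exists_third_fin ⟨u, hu⟩ ⟨w, hw⟩ h1 h2 h3
  exact ⟨t.val, t.isLt, ht⟩

/-- a function on the nonzero vectors of a 4-space over `𝔽₂` with zero sum on every plane is
constant -/
theorem fano (f : ℕ → ZMod 3)
    (h : ∀ u w, IsPos u → IsPos w → u ≠ w → f u + f w + f (u ^^^ w) = 0) :
    ∀ u w, IsPos u → IsPos w → f u = f w := by
  intro u w hu hw
  by_cases huw : u = w
  · rw [huw]
  obtain ⟨t, ht16, ht0, htu, htw, htuw⟩ := exists_third u (by have := hu.2; omega) w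
    (by have := hw.2; omega) (by have := hu.1; omega) (by have := hw.1; omega) huw
  have ht : IsPos t := ⟨by omega, by omega⟩
  have hwt : IsPos (w ^^^ t) := isPos_xor hw ht (Ne.symm htw)
  have hut : IsPos (u ^^^ t) := isPos_xor hu ht (Ne.symm htu)
  have h1 : u ≠ w ^^^ t := by
    intro e
    apply htuw
    rw [e, Nat.xor_comm w t, Nat.xor_assoc, Nat.xor_self, Nat.xor_zero]
  have h2 : w ≠ u ^^^ t := by
    intro e
    apply htuw
    rw [e, ← Nat.xor_assoc, Nat.xor_self, Nat.zero_xor]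
  have e2 := h u t hu ht (Ne.symm htu)
  have e3 := h u (w ^^^ t) hu hwt h1
  have e4 := h w t hw ht (Ne.symm htw)
  have e5 := h w (u ^^^ t) hw hut h2
  have ek : w ^^^ (u ^^^ t) = u ^^^ (w ^^^ t) := by
    rw [← Nat.xor_assoc, Nat.xor_comm w u, Nat.xor_assoc]
  rw [ek] at e5
  have h3 : (3 : ZMod 3) = 0 := by decide
  linear_combination (2 : ZMod 3) * (e2 + e3 - e4 - e5) + (f w - f u) * h3

namespace Setup

variable (S : Setup)

theorem good_one : S.Good 1 := by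
  refine ⟨id, fun _ => 0, Function.injective_id, ?_, ?_, ?_⟩
  · intro i c
    simp
  · intro i p hp
    simpa using hp
  · intro ℓ hℓ
    refine ⟨ℓ, hℓ, id, ?_, ?_⟩
    · intro u hu
      exact ⟨hu, rfl⟩
    · intro u w _ _ _
      refine ⟨rfl, ?_⟩
      simp

theorem good_mul (hH : S.Hyp) {x y : S.W} (hx : S.Good x) (hy : S.Good y) : S.Good (x * y) := by
  obtain ⟨βx, φx, ix, ax, fx, px⟩ := hx
  obtain ⟨βy, φy, iy, ay, fy, py⟩ := hy
  refine ⟨βx ∘ βy, fun i => φy i + φx (βy i), ix.comp iy, ?_, ?_, ?_⟩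
  · intro i c
    show x.2 (y.2 (i, c)) = _
    rw [ay, ax]
    simp only [Function.comp_apply, add_assoc]
  · intro i p hp
    show (x.1 * y.1) • p ∈ _
    rw [mul_smul]
    exact fx _ _ (fy _ _ hp)
  · intro ℓ hℓ
    obtain ⟨ℓ1, hℓ1, σ1, a1, b1⟩ := py ℓ hℓ
    obtain ⟨ℓ2, hℓ2, σ2, a2, b2⟩ := px ℓ1 hℓ1
    refine ⟨ℓ2, hℓ2, σ2 ∘ σ1, ?_, ?_⟩
    · intro u hu
      obtain ⟨h1, h2⟩ := a1 u hu
      obtain ⟨h3, h4⟩ := a2 _ h1
      refine ⟨h3, ?_⟩
      rw [Function.comp_apply, h4, h2]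
      rfl
    · intro u w hu hw huw
      obtain ⟨h1u, h2u⟩ := a1 u hu
      obtain ⟨h1w, h2w⟩ := a1 w hw
      have hne : σ1 u ≠ σ1 w := by
        intro e
        apply huw
        apply hH.LP_inj ℓ hℓ u w hu hw
        apply iy
        rw [← h2u, ← h2w, e]
      obtain ⟨c1, d1⟩ := b1 u w hu hw huw
      obtain ⟨c2, d2⟩ := b2 _ _ h1u h1w hne
      have hx := isPos_xor hu hw huw
      obtain ⟨_, h2x⟩ := a1 _ hx
      refine ⟨?_, ?_⟩
      · simp only [Function.comp_apply]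
        rw [c1, c2]
      · simp only [Function.comp_apply]
        rw [d2, d1, h2u, h2w, ← c1, h2x]
        ring

theorem good_gen (hH : S.Hyp) (k : Fin 2) : S.Good (S.Gn k) :=
  ⟨S.bet k, S.lab k, (S.bet k).injective, fun i c => S.X_apply k i c, hH.FS_gen k, hH.P3_gen k⟩

theorem good_of_mem (hH : S.Hyp) {x : S.W} (hx : x ∈ S.D) : S.Good x := by
  have h1 : x ∈ (S.D).toSubmonoid := hx
  unfold D at h1
  rw [Subgroup.closure_toSubmonoid_of_finite] at h1
  clear hx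
  induction h1 using Submonoid.closure_induction with
  | mem y hy =>
    rcases hy with rfl | rfl
    · exact S.good_gen hH 0
    · exact S.good_gen hH 1
  | one => exact S.good_one
  | mul a b _ _ ha hb => exact S.good_mul hH ha hb

/-- the kernel theorem: a good element over the identity of `G` is a shift of the fibres -/
theorem shift_of_good (hH : S.Hyp) {x : S.W} (hx : S.Good x) (h1 : x.1 = 1) :
    ∃ c, x.2 = S.zs c := by
  obtain ⟨β, φ, iβ, aβ, fβ, pβ⟩ := hx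
  have hsub : ∀ i, S.FS i ⊆ S.FS (β i) := by
    intro i p hp
    have := fβ i p hp
    rwa [h1, one_smul] at this
  have hbij : Function.Bijective β := Finite.injective_iff_bijective.mp iβ
  have hcard : ∀ i, (S.FS i).card = (S.FS (β i)).card := by
    have hle : ∀ i ∈ (Finset.univ : Finset (Fin S.B)), (S.FS i).card ≤ (S.FS (β i)).card :=
      fun i _ => Finset.card_le_card (hsub i)
    have hsum : ∑ i, (S.FS i).card = ∑ i, (S.FS (β i)).card :=
      ((Equiv.ofBijective β hbij).sum_comp (fun i => (S.FS i).card)).symm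
    intro i
    exact (Finset.sum_eq_sum_iff_of_le hle).mp hsum i (Finset.mem_univ i)
  have hβ : ∀ i, β i = i := by
    intro i
    apply hH.FS_inj
    exact (Finset.eq_of_subset_of_card_le (hsub i) (hcard i).ge).symm
  have hφ : ∀ ℓ < S.B, ∀ u w, IsPos u → IsPos w → φ (S.LP ℓ u) = φ (S.LP ℓ w) := by
    intro ℓ hℓ
    obtain ⟨ℓ', hℓ', σ, a1, b1⟩ := pβ ℓ hℓ
    have e : ℓ' = ℓ := by
      apply hH.line_eq ℓ hℓ ℓ' hℓ'
      intro u hu
      obtain ⟨h2, h3⟩ := a1 u hu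
      exact ⟨σ u, h2, by rw [h3, hβ]⟩
    subst e
    have hσ : ∀ u, IsPos u → σ u = u := by
      intro u hu
      obtain ⟨h2, h3⟩ := a1 u hu
      apply hH.LP_inj ℓ' hℓ _ _ h2 hu
      rw [h3, hβ]
    apply fano (fun u => φ (S.LP ℓ' u))
    intro u w hu hw huw
    obtain ⟨_, d1⟩ := b1 u w hu hw huw
    rw [hσ u hu, hσ w hw] at d1
    show φ (S.LP ℓ' u) + φ (S.LP ℓ' w) + φ (S.LP ℓ' (u ^^^ w)) = 0
    linear_combination -d1
  have hc := hH.conn φ hφ
  refine ⟨φ S.r0, ?_⟩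
  ext ⟨i, c⟩ : 1
  rw [aβ, hβ, hc i]
  rfl

end Setup

end Cfsg.Agent.Lib.Helper4.McLM
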