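import Cfsg.Agent.Lib.Helper4.McLM.Cov2

set_option autoImplicit false

/-! # The cover is a stem extension with kernel of order three -/

namespace Cfsg.Agent.Lib.Helper4.McLM

/-- a central extension with kernel of exponent three of a perfect group, generated by elements
of orders prime to three, is perfect -/
theorem perfect_of_cover {Γ G : Type*} [Group Γ] [Group G] (σ : Γ →* G)
    (hs : Function.Surjective σ) (hG : commutator G = ⊤) (hc : σ.ker ≤ Subgroup.center Γ)
    (h3 : ∀ k ∈ σ.ker, k ^ 3 = 1) (T : Set Γ) (hT : Subgroup.closure T = ⊤)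
    (hord : ∀ x ∈ T, ∃ m : ℕ, Nat.Coprime m 3 ∧ x ^ m = 1) : commutator Γ = ⊤ := by
  have hmap : Subgroup.map σ (commutator Γ) = ⊤ := by
    rw [commutator_def, Subgroup.map_commutator, ← MonoidHom.range_eq_map,
      MonoidHom.range_eq_top.mpr hs, ← commutator_def, hG]
  have hcube : ∀ x : Γ, x ^ 3 ∈ commutator Γ := by
    intro x
    have hx : σ x ∈ Subgroup.map σ (commutator Γ) := by rw [hmap]; exact Subgroup.mem_top _
    obtain ⟨y, hy, hyx⟩ := hx
    have hk : y⁻¹ * x ∈ σ.ker := by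
      rw [MonoidHom.mem_ker, map_mul, map_inv, hyx, inv_mul_cancel]
    have hcomm : Commute y (y⁻¹ * x) := (Subgroup.mem_center_iff.mp (hc hk) y)
    have e : x = y * (y⁻¹ * x) := by group
    rw [e, hcomm.mul_pow, h3 _ hk, mul_one]
    exact Subgroup.pow_mem _ hy 3
  rw [eq_top_iff, ← hT, Subgroup.closure_le]
  intro x hx
  obtain ⟨m, hm, hxm⟩ := hord x hx
  show x ∈ commutator Γ
  by_cases h1 : 1 < m
  · obtain ⟨a, -, ha⟩ := Nat.exists_mul_mod_eq_one_of_coprime hm.symm h1
    have e : x = (x ^ a) ^ 3 := by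
      rw [← pow_mul, mul_comm a 3, ← Nat.div_add_mod (3 * a) m, ha, pow_add, pow_mul, hxm,
        one_pow, one_mul, pow_one]
    rw [e]
    exact hcube _
  · have hm1 : m = 1 := by
      rcases Nat.lt_or_ge 0 m with h | h
      · omega
      · have : m = 0 := by omega
        rw [this] at hm
        simp at hm
    rw [hm1, pow_one] at hxm
    rw [hxm]
    exact Subgroup.one_mem _

namespace Setup

variable (S : Setup)

/-- the product of the generators along a word, the first letter acting first -/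
def gw : List (Fin 2) → S.W
  | [] => 1
  | c :: w => gw w * S.Gn c

theorem gw_mem (w : List (Fin 2)) : S.gw w ∈ S.D := by
  induction w with
  | nil => exact Subgroup.one_mem _
  | cons c w ih =>
    apply Subgroup.mul_mem _ ih
    apply Subgroup.subset_closure
    fin_cases c
    · exact Or.inl rfl
    · exact Or.inr rfl

/-- the further hypotheses: a relation of `G` lifting to the shift, and the orders -/
structure Hyp2 : Prop where
  hrel : ∃ w1 w2 : List (Fin 2), (S.gw w1).1 = (S.gw w2).1 ∧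
    ∃ j c, (S.gw w1).2 (S.r0, 0) = (j, c + 1) ∧ (S.gw w2).2 (S.r0, 0) = (j, c)
  hord : ∀ k, ∃ m : ℕ, Nat.Coprime m 3 ∧ S.gen k ^ m = 1 ∧ ((S.X k) ^ m) (S.r0, 0) = (S.r0, 0)

theorem zs_add (a b : ZMod 3) : S.zs (a + b) = S.zs a * S.zs b := by
  ext q : 1
  show (q.1, q.2 + (a + b)) = (q.1, q.2 + b + a)
  rw [add_assoc, add_comm b a]

theorem zs_zero : S.zs 0 = 1 := by
  ext q : 1
  show (q.1, q.2 + 0) = q
  rw [add_zero]

theorem zs_injective : Function.Injective S.zs := by
  intro a b h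
  have := congrArg (fun π : Equiv.Perm S.Om => (π (S.r0, 0)).2) h
  simpa [zs_apply] using this

/-- the projection of the cover -/
def sig : S.D →* S.G := (MonoidHom.fst S.G (Equiv.Perm S.Om)).comp S.D.subtype

theorem sig_apply (d : S.D) : S.sig d = d.1.1 := rfl

theorem sig_surjective (hH : S.Hyp) : Function.Surjective S.sig := by
  intro g
  have hg : g ∈ Subgroup.closure {S.gen 0, S.gen 1} := by rw [hH.hgen]; exact Subgroup.mem_top _
  induction hg using Subgroup.closure_induction with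
  | mem y hy =>
    rcases hy with rfl | rfl
    · exact ⟨⟨S.Gn 0, Subgroup.subset_closure (Or.inl rfl)⟩, rfl⟩
    · exact ⟨⟨S.Gn 1, Subgroup.subset_closure (Or.inr rfl)⟩, rfl⟩
  | one => exact ⟨1, rfl⟩
  | mul a b _ _ ha hb =>
    obtain ⟨x, rfl⟩ := ha
    obtain ⟨y, rfl⟩ := hb
    exact ⟨x * y, map_mul _ _ _⟩
  | inv a _ ha =>
    obtain ⟨x, rfl⟩ := ha
    exact ⟨x⁻¹, map_inv _ _⟩

/-- the elements of the kernel are the shifts -/
theorem ker_shift (hH : S.Hyp) (d : S.D) (hd : d ∈ S.sig.ker) : ∃ c, d.1 = (1, S.zs c) := by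
  have h1 : d.1.1 = 1 := hd
  obtain ⟨c, hc⟩ := S.shift_of_good hH (S.good_of_mem hH d.2) h1
  exact ⟨c, Prod.ext h1 hc⟩

/-- the shift by one lies in the cover -/
theorem zelt_mem (hH : S.Hyp) (hH2 : S.Hyp2) : ((1 : S.G), S.zs 1) ∈ S.D := by
  obtain ⟨w1, w2, h12, j, c, e1, e2⟩ := hH2.hrel
  have hR : S.gw w1 * (S.gw w2)⁻¹ ∈ S.D := Subgroup.mul_mem _ (S.gw_mem w1)
    (Subgroup.inv_mem _ (S.gw_mem w2))
  have h1 : (S.gw w1 * (S.gw w2)⁻¹).1 = 1 := by
    show (S.gw w1).1 * ((S.gw w2).1)⁻¹ = 1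
    rw [h12, mul_inv_cancel]
  obtain ⟨c0, hc0⟩ := S.shift_of_good hH (S.good_of_mem hH hR) h1
  have h2 : (S.gw w1 * (S.gw w2)⁻¹).2 (j, c) = (j, c + 1) := by
    show (S.gw w1).2 (((S.gw w2).2)⁻¹ (j, c)) = _
    have h3 : ((S.gw w2).2)⁻¹ (j, c) = (S.r0, 0) := by rw [Equiv.Perm.inv_eq_iff_eq, e2]
    rw [h3, e1]
  rw [hc0, zs_apply] at h2
  have hc1 : c0 = 1 := by
    have := congrArg Prod.snd h2
    simpa using this
  have e : ((1 : S.G), S.zs 1) = S.gw w1 * (S.gw w2)⁻¹ := by
    apply Prod.ext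
    · exact h1.symm
    · rw [hc0, hc1]
  rw [e]
  exact hR

theorem zs_mem (hH : S.Hyp) (hH2 : S.Hyp2) (c : ZMod 3) : ((1 : S.G), S.zs c) ∈ S.D := by
  have h := Subgroup.pow_mem _ (S.zelt_mem hH hH2) c.val
  have e : ((1 : S.G), S.zs 1) ^ c.val = ((1 : S.G), S.zs c) := by
    apply Prod.ext
    · show (1 : S.G) ^ c.val = 1
      rw [one_pow]
    · show (S.zs 1) ^ c.val = S.zs c
      have : ∀ n : ℕ, (S.zs 1) ^ n = S.zs (n : ZMod 3) := by
        intro n
        induction n with
        | zero => rw [pow_zero, Nat.cast_zero, zs_zero]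
        | succ n ih => rw [pow_succ, ih, Nat.cast_succ, zs_add]
      rw [this, ZMod.natCast_val, ZMod.cast_id]
  rwa [e] at h

/-- the value of an element of the kernel -/
noncomputable def kerVal (d : S.sig.ker) : Multiplicative (ZMod 3) :=
  Multiplicative.ofAdd ((d.1.1.2 (S.r0, 0)).2)

theorem kerVal_spec (hH : S.Hyp) (d : S.sig.ker) :
    d.1.1 = (1, S.zs (Multiplicative.toAdd (S.kerVal d))) := by
  obtain ⟨c, hc⟩ := S.ker_shift hH d.1 d.2
  have : Multiplicative.toAdd (S.kerVal d) = c := by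
    unfold kerVal
    rw [hc]
    simp [zs_apply]
  rw [this, hc]

/-- the kernel is cyclic of order three -/
noncomputable def kerEquiv (hH : S.Hyp) (hH2 : S.Hyp2) : S.sig.ker ≃* Multiplicative (ZMod 3) := by
  refine MulEquiv.ofBijective (MonoidHom.mk' (S.kerVal) ?_) ⟨?_, ?_⟩
  · intro a b
    have ha := S.kerVal_spec hH a
    have hb := S.kerVal_spec hH b
    unfold kerVal
    have hab : (a * b).1.1 = a.1.1 * b.1.1 := rfl
    rw [hab, ha, hb]
    simp [zs_apply, add_comm]
  · intro a b hab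
    have ha := S.kerVal_spec hH a
    have hb := S.kerVal_spec hH b
    have hab' : S.kerVal a = S.kerVal b := hab
    rw [hab'] at ha
    apply Subtype.ext
    apply Subtype.ext
    rw [ha, hb]
  · intro c
    have hm := S.zs_mem hH hH2 (Multiplicative.toAdd c)
    refine ⟨⟨⟨_, hm⟩, ?_⟩, ?_⟩
    · show ((1 : S.G), S.zs (Multiplicative.toAdd c)).1 = 1
      rfl
    · show S.kerVal _ = c
      unfold kerVal
      simp [zs_apply]

theorem ker_le_center (hH : S.Hyp) : S.sig.ker ≤ Subgroup.center S.D := by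
  intro d hd
  obtain ⟨c, hc⟩ := S.ker_shift hH d hd
  rw [Subgroup.mem_center_iff]
  intro e
  obtain ⟨β, φ, _, aβ, _, _⟩ := S.good_of_mem hH e.2
  apply Subtype.ext
  show e.1 * d.1 = d.1 * e.1
  rw [hc]
  apply Prod.ext
  · show e.1.1 * 1 = 1 * e.1.1
    rw [mul_one, one_mul]
  · show e.1.2 * S.zs c = S.zs c * e.1.2
    ext ⟨i, c'⟩ : 1
    show e.1.2 (S.zs c (i, c')) = S.zs c (e.1.2 (i, c'))
    rw [zs_apply, aβ, aβ, zs_apply]
    show (β i, c' + c + φ i) = (β i, c' + φ i + c)
    rw [add_right_comm]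

/-- the generators have orders prime to three -/
theorem gn_pow (hH : S.Hyp) (hH2 : S.Hyp2) (k : Fin 2) :
    ∃ m : ℕ, Nat.Coprime m 3 ∧ (S.Gn k) ^ m = 1 := by
  obtain ⟨m, hm, h1, h2⟩ := hH2.hord k
  refine ⟨m, hm, ?_⟩
  have hmem : (S.Gn k) ^ m ∈ S.D := by
    apply Subgroup.pow_mem
    apply Subgroup.subset_closure
    fin_cases k
    · exact Or.inl rfl
    · exact Or.inr rfl
  have hfst : ((S.Gn k) ^ m).1 = 1 := by
    show (S.gen k) ^ m = 1
    exact h1
  obtain ⟨c, hc⟩ := S.shift_of_good hH (S.good_of_mem hH hmem) hfst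
  have hsnd : ((S.Gn k) ^ m).2 = (S.X k) ^ m := rfl
  have hc0 : c = 0 := by
    rw [hsnd] at hc
    rw [hc, zs_apply] at h2
    have := congrArg Prod.snd h2
    simpa using this
  apply Prod.ext
  · exact hfst
  · rw [hc, hc0, zs_zero]
    rfl

/-- the main theorem: the cover is a stem extension of `G` with kernel of order three -/
theorem isStem (hH : S.Hyp) (hH2 : S.Hyp2) : Cfsg.IsStemExtension S.sig := by
  refine ⟨S.sig_surjective hH, S.ker_le_center hH, ?_⟩
  have hperf : commutator S.D = ⊤ := by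
    apply perfect_of_cover S.sig (S.sig_surjective hH) hH.hperf (S.ker_le_center hH) ?_
      (((↑) : S.D → S.W) ⁻¹' {S.Gn 0, S.Gn 1}) (Subgroup.closure_closure_coe_preimage) ?_
    · intro d hd
      obtain ⟨c, hc⟩ := S.ker_shift hH d hd
      apply Subtype.ext
      show d.1 ^ 3 = 1
      rw [hc]
      apply Prod.ext
      · show (1 : S.G) ^ 3 = 1
        rw [one_pow]
      · show (S.zs c) ^ 3 = 1
        rw [pow_succ, pow_two, ← zs_add, ← zs_add, ← zs_zero]
        congr 1
        have : c + c + c = 3 * c := by ring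
        rw [this]
        have h3 : (3 : ZMod 3) = 0 := by decide
        rw [h3, zero_mul]
    · intro d hd
      have hd' : d.1 = S.Gn 0 ∨ d.1 = S.Gn 1 := hd
      rcases hd' with h | h
      · obtain ⟨m, hm, hp⟩ := S.gn_pow hH hH2 0
        refine ⟨m, hm, ?_⟩
        apply Subtype.ext
        show d.1 ^ m = 1
        rw [h, hp]
      · obtain ⟨m, hm, hp⟩ := S.gn_pow hH hH2 1
        refine ⟨m, hm, ?_⟩
        apply Subtype.ext
        show d.1 ^ m = 1
        rw [h, hp]
  rw [hperf]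
  exact le_top

end Setup

end Cfsg.Agent.Lib.Helper4.McLM
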