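import Cfsg.Agent.Lib.Helper4.McLM.Cov3
import Cfsg.Agent.Lib.Helper6.TC1

set_option autoImplicit false

/-! # Kernel-friendly checks for the data of a cover, and what they prove -/

namespace Cfsg.Agent.Lib.Helper4.McLM

open Cfsg.Agent.Lib.Helper6.TC

/-- a field of `w` bits -/
noncomputable def fld (w : ℕ) (x i : ℕ) : ℕ :=
  Nat.land (Nat.shiftRight x (Nat.mul w i)) (Nat.sub (Nat.pow 2 w) 1)

/-- evaluate a number, then apply a test -/
noncomputable def strictB (f : ℕ → Bool) (n : ℕ) : Bool :=
  Nat.rec (motive := fun _ => Bool) (f 0) (fun m _ => f (Nat.succ m)) n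

theorem strictB_eq (f : ℕ → Bool) (n : ℕ) : strictB f n = f n := by
  cases n <;> rfl

/-- the bit test written with raw operations -/
noncomputable def tbit (m q : ℕ) : Bool := Nat.beq (Nat.land (Nat.shiftRight m q) 1) 1

theorem tbit_eq (m q : ℕ) : tbit m q = m.testBit q := by
  unfold tbit
  have h : Nat.land (Nat.shiftRight m q) 1 = (m >>> q) % 2 := Nat.and_one_is_mod _
  rw [h, Nat.testBit, Nat.and_comm, Nat.and_one_is_mod]
  rcases Nat.mod_two_eq_zero_or_one (m >>> q) with e | e <;> rw [e] <;> rfl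

end Cfsg.Agent.Lib.Helper4.McLM
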