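import Cfsg.Agent.Lib.Helper4.McLM.Cov4

set_option autoImplicit false

/-! # The tables of a cover and the checks on them -/

namespace Cfsg.Agent.Lib.Helper4.McLM

open Cfsg.Agent.Lib.Helper6.TC

/-- the tables -/
structure Tabs where
  n : ℕ
  B : ℕ
  T : ℕ → ℕ → ℕ
  Ti : ℕ → ℕ → ℕ
  A : ℕ → ℕ → ℕ
  MK : ℕ → ℕ
  LN : ℕ → ℕ
  KT : ℕ → ℕ
  TL : ℕ → ℕ → ℕ
  RK : ℕ → ℕ
  PR : ℕ → ℕ
  r0 : ℕ

/-- negation -/
noncomputable def bnot (a : Bool) : Bool := Bool.rec true false a

@[simp] theorem bnot_eq_true (a : Bool) : bnot a = true ↔ a = false := by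
  cases a <;> simp [bnot]

/-- the index of a pair of positions `u < w` -/
noncomputable def pidx (u w : ℕ) : ℕ :=
  Nat.add (Nat.div (Nat.mul (Nat.sub w 1) (Nat.sub w 2)) 2) (Nat.sub u 1)

/-- the image line -/
noncomputable def tlL (y : ℕ) : ℕ := Nat.land y 32767
/-- the image position -/
noncomputable def tlS (y u : ℕ) : ℕ := fld 4 (Nat.shiftRight y 15) u
/-- the label of a position -/
noncomputable def tlP (y u : ℕ) : ℕ := fld 2 (Nat.shiftRight y 79) u

namespace Tabs

variable (D : Tabs)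

/-! ## the block permutations -/

noncomputable def chkInv (k lo len : ℕ) : Bool :=
  allR (fun i => band (Nat.blt (Nat.div (D.T k i) 3) D.B)
    (band (Nat.beq (D.Ti k (Nat.div (D.T k i) 3)) i)
    (band (Nat.blt (D.Ti k i) D.B) (Nat.beq (Nat.div (D.T k (D.Ti k i)) 3) i)))) lo len

theorem chkInv_spec {k lo len : ℕ} (h : D.chkInv k lo len = true) :
    ∀ i, lo ≤ i → i < lo + len → D.T k i / 3 < D.B ∧ D.Ti k (D.T k i / 3) = i ∧
      D.Ti k i < D.B ∧ D.T k (D.Ti k i) / 3 = i := by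
  intro i h1 h2
  have := allR_spec h i h1 h2
  simp only [band_eq_true, Nat.blt_eq, Nat.beq_eq] at this
  exact this

/-! ## the fixed points -/

noncomputable def chkFS (k lo len : ℕ) : Bool :=
  allR (fun i => strictB (fun m => strictB (fun m' =>
    allB (fun p => bor (bnot (tbit m p)) (tbit m' (D.A k p))) D.n)
    (D.MK (Nat.div (D.T k i) 3))) (D.MK i)) lo len

theorem chkFS_spec {k lo len : ℕ} (h : D.chkFS k lo len = true) :
    ∀ i, lo ≤ i → i < lo + len → ∀ p < D.n, (D.MK i).testBit p = true →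
      (D.MK (D.T k i / 3)).testBit (D.A k p) = true := by
  intro i h1 h2 p hpn hp
  have := allR_spec h i h1 h2
  rw [strictB_eq, strictB_eq] at this
  have h3 := allB_spec this p hpn
  rw [bor_eq_true, bnot_eq_true, tbit_eq, tbit_eq] at h3
  rcases h3 with h3 | h3
  · rw [hp] at h3
    exact absurd h3 (by simp)
  · exact h3

noncomputable def chkMK (lo len : ℕ) : Bool :=
  allR (fun i => Nat.blt (D.MK i) (D.MK (Nat.succ i))) lo len

theorem chkMK_spec {lo len : ℕ} (h : D.chkMK lo len = true) :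
    ∀ i, lo ≤ i → i < lo + len → D.MK i < D.MK (i + 1) := by
  intro i h1 h2
  have := allR_spec h i h1 h2
  simp only [Nat.blt_eq] at this
  exact this

/-! ## the lines -/

/-- the key of a line -/
noncomputable def lkey (x : ℕ) : ℕ := Nat.add (Nat.mul (fld 15 x 1) 32768) (fld 15 x 2)

/-- the check of one line -/
noncomputable def chkLine1 (B x : ℕ) : Bool :=
  band (Nat.blt (fld 15 x 1) (fld 15 x 2))
  (band (allB (fun u' => band (Nat.blt (fld 15 x 2) (fld 15 x (Nat.add u' 3)))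
      (Nat.blt (fld 15 x (Nat.add u' 3)) B)) 13)
  (band (Nat.blt (fld 15 x 2) B)
  (allB (fun w' => allB (fun u' =>
    bnot (Nat.beq (fld 15 x (Nat.succ u')) (fld 15 x (Nat.succ w')))) w') 15)))

noncomputable def chkLine (lo len : ℕ) : Bool :=
  allR (fun ℓ => strictB (fun x => chkLine1 D.B x) (D.LN ℓ)) lo len

noncomputable def chkKey (lo len : ℕ) : Bool :=
  allR (fun ℓ => Nat.blt (lkey (D.LN ℓ)) (lkey (D.LN (Nat.succ ℓ)))) lo len

theorem chkLine1_spec {B x : ℕ} (h : chkLine1 B x = true) :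
    fld 15 x 1 < fld 15 x 2 ∧ (∀ u, 3 ≤ u → u ≤ 15 → fld 15 x 2 < fld 15 x u) ∧
    (∀ u, IsPos u → fld 15 x u < B) ∧
    (∀ u w, IsPos u → IsPos w → u < w → fld 15 x u ≠ fld 15 x w) := by
  unfold chkLine1 at h
  simp only [band_eq_true, Nat.blt_eq] at h
  obtain ⟨h1, h2, h3, h4⟩ := h
  have h2' : ∀ u, 3 ≤ u → u ≤ 15 → fld 15 x 2 < fld 15 x u ∧ fld 15 x u < B := by
    intro u hu1 hu2
    have := allB_spec h2 (u - 3) (by omega)
    simp only [band_eq_true, Nat.blt_eq] at this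
    have e : Nat.add (u - 3) 3 = u := by show u - 3 + 3 = u; omega
    rwa [e] at this
  refine ⟨h1, fun u a b => (h2' u a b).1, ?_, ?_⟩
  · intro u hu
    obtain ⟨hu1, hu2⟩ := hu
    rcases Nat.lt_or_ge u 3 with h | h
    · have : u = 1 ∨ u = 2 := by omega
      rcases this with rfl | rfl
      · omega
      · exact h3
    · exact (h2' u h hu2).2
  · intro u w hu hw huw
    have := allB_spec (allB_spec h4 (w - 1) (by have := hw.2; omega)) (u - 1)
      (by have := hu.1; omega)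
    rw [bnot_eq_true] at this
    have e1 : Nat.succ (u - 1) = u := by have := hu.1; omega
    have e2 : Nat.succ (w - 1) = w := by have := hw.1; omega
    rw [e1, e2] at this
    intro e
    rw [e, Nat.beq_refl] at this
    exact absurd this (by simp)

theorem chkLine_spec {lo len : ℕ} (h : D.chkLine lo len = true) :
    ∀ ℓ, lo ≤ ℓ → ℓ < lo + len → chkLine1 D.B (D.LN ℓ) = true := by
  intro ℓ h1 h2
  have := allR_spec h ℓ h1 h2
  rwa [strictB_eq] at this

theorem chkKey_spec {lo len : ℕ} (h : D.chkKey lo len = true) :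
    ∀ ℓ, lo ≤ ℓ → ℓ < lo + len → lkey (D.LN ℓ) < lkey (D.LN (ℓ + 1)) := by
  intro ℓ h1 h2
  have := allR_spec h ℓ h1 h2
  simp only [Nat.blt_eq] at this
  exact this

/-! ## the action on the lines -/

/-- the check of one line and one generator: `x, x'` the lines, `kt, kt'` their functions -/
noncomputable def chkP3a (D : Tabs) (k y x x' : ℕ) : Bool :=
  allB (fun u' =>
    band (bnot (Nat.beq (tlS y (Nat.succ u')) 0))
    (strictB (fun v =>
      band (Nat.beq (fld 15 x' (tlS y (Nat.succ u'))) (Nat.div v 3))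
        (Nat.beq (tlP y (Nat.succ u')) (Nat.mod v 3))) (D.T k (fld 15 x (Nat.succ u'))))) 15

noncomputable def chkP3b (y kt kt' : ℕ) : Bool :=
  allB (fun w' => allB (fun u' =>
    band (Nat.beq (tlS y (Nat.xor (Nat.succ u') (Nat.succ w')))
        (Nat.xor (tlS y (Nat.succ u')) (tlS y (Nat.succ w'))))
      (Nat.beq (fld 2 kt' (pidx (Nat.min (tlS y (Nat.succ u')) (tlS y (Nat.succ w')))
          (Nat.max (tlS y (Nat.succ u')) (tlS y (Nat.succ w')))))
        (Nat.mod (Nat.add (Nat.add (Nat.add (fld 2 kt (pidx (Nat.succ u') (Nat.succ w')))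
          (tlP y (Nat.succ u'))) (tlP y (Nat.succ w')))
          (tlP y (Nat.xor (Nat.succ u') (Nat.succ w')))) 3))) w') 15

noncomputable def chkP3 (k lo len : ℕ) : Bool :=
  allR (fun ℓ => strictB (fun y =>
    band (Nat.blt (tlL y) D.B)
    (band (chkP3a D k y (D.LN ℓ) (D.LN (tlL y)))
      (chkP3b y (D.KT ℓ) (D.KT (tlL y))))) (D.TL k ℓ)) lo len

theorem chkP3_spec {k lo len : ℕ} (h : D.chkP3 k lo len = true) :
    ∀ ℓ, lo ≤ ℓ → ℓ < lo + len →
      tlL (D.TL k ℓ) < D.B ∧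
      (∀ u, IsPos u → tlS (D.TL k ℓ) u ≠ 0 ∧
        fld 15 (D.LN (tlL (D.TL k ℓ))) (tlS (D.TL k ℓ) u) = D.T k (fld 15 (D.LN ℓ) u) / 3 ∧
        tlP (D.TL k ℓ) u = D.T k (fld 15 (D.LN ℓ) u) % 3) ∧
      (∀ u w, IsPos u → IsPos w → u < w →
        tlS (D.TL k ℓ) (u ^^^ w) = tlS (D.TL k ℓ) u ^^^ tlS (D.TL k ℓ) w ∧
        fld 2 (D.KT (tlL (D.TL k ℓ)))
            (pidx (min (tlS (D.TL k ℓ) u) (tlS (D.TL k ℓ) w))
              (max (tlS (D.TL k ℓ) u) (tlS (D.TL k ℓ) w))) =
          (fld 2 (D.KT ℓ) (pidx u w) + tlP (D.TL k ℓ) u + tlP (D.TL k ℓ) w +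
            tlP (D.TL k ℓ) (u ^^^ w)) % 3) := by
  intro ℓ h1 h2
  have := allR_spec h ℓ h1 h2
  rw [strictB_eq] at this
  simp only [band_eq_true, Nat.blt_eq] at this
  obtain ⟨ha, hb, hc⟩ := this
  refine ⟨ha, ?_, ?_⟩
  · intro u hu
    have h3 := allB_spec hb (u - 1) (by have := hu.1; have := hu.2; omega)
    have e1 : Nat.succ (u - 1) = u := by have := hu.1; omega
    rw [e1, strictB_eq] at h3
    simp only [band_eq_true, bnot_eq_true, Nat.beq_eq] at h3
    refine ⟨?_, h3.2.1, h3.2.2⟩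
    intro e
    have := h3.1
    rw [e, Nat.beq_refl] at this
    exact absurd this (by simp)
  · intro u w hu hw huw
    have h3 := allB_spec (allB_spec hc (w - 1) (by have := hw.2; omega)) (u - 1)
      (by have := hu.1; omega)
    have e1 : Nat.succ (u - 1) = u := by have := hu.1; omega
    have e2 : Nat.succ (w - 1) = w := by have := hw.1; omega
    rw [e1, e2] at h3
    simp only [band_eq_true, Nat.beq_eq] at h3
    exact h3

/-! ## connectivity -/

noncomputable def chkConn (lo len : ℕ) : Bool :=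
  allR (fun i => bor (Nat.beq i D.r0) (strictB (fun y =>
    band (Nat.blt (Nat.land y 32767) D.B)
    (band (bnot (Nat.beq (fld 4 (Nat.shiftRight y 15) 0) 0))
    (band (bnot (Nat.beq (fld 4 (Nat.shiftRight y 15) 1) 0))
    (band (Nat.beq (fld 15 (D.LN (Nat.land y 32767)) (fld 4 (Nat.shiftRight y 15) 0)) i)
      (Nat.blt (D.RK (fld 15 (D.LN (Nat.land y 32767)) (fld 4 (Nat.shiftRight y 15) 1)))
        (D.RK i)))))) (D.PR i))) lo len

theorem chkConn_spec {lo len : ℕ} (h : D.chkConn lo len = true) :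
    ∀ i, lo ≤ i → i < lo + len → i ≠ D.r0 → ∃ ℓ < D.B, ∃ u w, u ≠ 0 ∧ u < 16 ∧ w ≠ 0 ∧ w < 16 ∧
      fld 15 (D.LN ℓ) u = i ∧ D.RK (fld 15 (D.LN ℓ) w) < D.RK i := by
  intro i h1 h2 hi
  have := allR_spec h i h1 h2
  rw [bor_eq_true, Nat.beq_eq, strictB_eq] at this
  rcases this with h | h
  · exact absurd h hi
  · simp only [band_eq_true, bnot_eq_true, Nat.blt_eq, Nat.beq_eq] at h
    obtain ⟨a, b, c, d, e⟩ := h
    have flt : ∀ x j, fld 4 x j < 16 := by
      intro x j
      unfold fld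
      show (x >>> (4 * j)) &&& (2 ^ 4 - 1) < 16
      have : (x >>> (4 * j)) &&& (2 ^ 4 - 1) ≤ 2 ^ 4 - 1 := Nat.and_le_right
      omega
    refine ⟨_, a, _, _, ?_, flt _ _, ?_, flt _ _, d, e⟩
    · intro e0
      rw [e0, Nat.beq_refl] at b
      exact absurd b (by simp)
    · intro e0
      rw [e0, Nat.beq_refl] at c
      exact absurd c (by simp)

end Tabs

end Cfsg.Agent.Lib.Helper4.McLM
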