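import Cfsg.Agent.Lib.Helper4.McLM.Cov5
import Cfsg.Agent.Lib.Helper6.Mult.PM1

set_option autoImplicit false

/-! # From the tables to the abstract setup -/

namespace Cfsg.Agent.Lib.Helper4.McLM

open Cfsg.Agent.Lib.Helper6.TC Cfsg.Agent.Lib.Helper6.PM

theorem fld_lt (w x i : ℕ) : fld w x i < 2 ^ w := by
  unfold fld
  show (x >>> (w * i)) &&& (2 ^ w - 1) < 2 ^ w
  have h1 : (x >>> (w * i)) &&& (2 ^ w - 1) ≤ 2 ^ w - 1 := Nat.and_le_right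
  have h2 : 0 < 2 ^ w := Nat.two_pow_pos w
  omega

/-- the facts proved by the checks -/
structure Facts (M : PModel) (D : Tabs) : Prop where
  hB : 0 < D.B
  hnl : 2 ≤ M.nl
  inv : ∀ k < 2, ∀ i < D.B, D.T k i / 3 < D.B ∧ D.Ti k (D.T k i / 3) = i ∧
    D.Ti k i < D.B ∧ D.T k (D.Ti k i) / 3 = i
  hA : ∀ k < 2, ∀ p < M.n, D.A k p = M.px k p
  fs : ∀ k < 2, ∀ i < D.B, ∀ p < M.n, (D.MK i).testBit p = true →
    (D.MK (D.T k i / 3)).testBit (D.A k p) = true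
  mkm : ∀ i, i + 1 < D.B → D.MK i < D.MK (i + 1)
  mkb : D.MK (D.B - 1) < 2 ^ M.n
  line : ∀ ℓ < D.B, Tabs.chkLine1 D.B (D.LN ℓ) = true
  key : ∀ ℓ, ℓ + 1 < D.B → Tabs.lkey (D.LN ℓ) < Tabs.lkey (D.LN (ℓ + 1))
  p3 : ∀ k < 2, ∀ ℓ < D.B,
      tlL (D.TL k ℓ) < D.B ∧
      (∀ u, IsPos u → tlS (D.TL k ℓ) u ≠ 0 ∧
        fld 15 (D.LN (tlL (D.TL k ℓ))) (tlS (D.TL k ℓ) u) = D.T k (fld 15 (D.LN ℓ) u) / 3 ∧
        tlP (D.TL k ℓ) u = D.T k (fld 15 (D.LN ℓ) u) % 3) ∧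
      (∀ u w, IsPos u → IsPos w → u < w →
        tlS (D.TL k ℓ) (u ^^^ w) = tlS (D.TL k ℓ) u ^^^ tlS (D.TL k ℓ) w ∧
        fld 2 (D.KT (tlL (D.TL k ℓ)))
            (pidx (min (tlS (D.TL k ℓ) u) (tlS (D.TL k ℓ) w))
              (max (tlS (D.TL k ℓ) u) (tlS (D.TL k ℓ) w))) =
          (fld 2 (D.KT ℓ) (pidx u w) + tlP (D.TL k ℓ) u + tlP (D.TL k ℓ) w +
            tlP (D.TL k ℓ) (u ^^^ w)) % 3)
  conn : ∀ i < D.B, i ≠ D.r0 → ∃ ℓ < D.B, ∃ u w, u ≠ 0 ∧ u < 16 ∧ w ≠ 0 ∧ w < 16 ∧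
      fld 15 (D.LN ℓ) u = i ∧ D.RK (fld 15 (D.LN ℓ) w) < D.RK i
  r0 : D.r0 < D.B
  gen : Subgroup.closure {(M.elt [0])⁻¹, (M.elt [1])⁻¹} = ⊤
  perf : commutator M.G = ⊤

variable {M : PModel} {D : Tabs}

/-- a number as a block -/
def blk (F : Facts M D) (x : ℕ) : Fin D.B := ⟨x % D.B, Nat.mod_lt _ F.hB⟩

theorem blk_val (F : Facts M D) {x : ℕ} (hx : x < D.B) : (blk F x).val = x := Nat.mod_eq_of_lt hx

theorem blk_coe (F : Facts M D) (i : Fin D.B) : blk F i.val = i :=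
  Fin.ext (Nat.mod_eq_of_lt i.isLt)

/-- the permutation of the blocks of a generator -/
def betOf (F : Facts M D) (k : Fin 2) : Equiv.Perm (Fin D.B) where
  toFun i := blk F (D.T k.val i.val / 3)
  invFun j := blk F (D.Ti k.val j.val)
  left_inv := by
    intro i
    obtain ⟨h1, h2, _, _⟩ := F.inv k.val k.isLt i.val i.isLt
    apply Fin.ext
    show D.Ti k.val ((blk F (D.T k.val i.val / 3)).val) % D.B = i.val
    rw [blk_val F h1, h2, Nat.mod_eq_of_lt i.isLt]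
  right_inv := by
    intro j
    obtain ⟨_, _, h3, h4⟩ := F.inv k.val k.isLt j.val j.isLt
    apply Fin.ext
    show D.T k.val ((blk F (D.Ti k.val j.val)).val) / 3 % D.B = j.val
    rw [blk_val F h3, h4, Nat.mod_eq_of_lt j.isLt]

theorem betOf_val (F : Facts M D) (k : Fin 2) (i : Fin D.B) :
    (betOf F k i).val = D.T k.val i.val / 3 :=
  blk_val F (F.inv k.val k.isLt i.val i.isLt).1

/-- the setup of the tables -/
noncomputable def setup (F : Facts M D) : Setup where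
  G := M.G
  P := Fin M.n
  act := M.actG
  B := D.B
  nzB := ⟨by have := F.hB; omega⟩
  gen k := (M.elt [k.val])⁻¹
  bet := betOf F
  lab k i := ((D.T k.val i.val % 3 : ℕ) : ZMod 3)
  FS i := Finset.univ.filter fun p : Fin M.n => (D.MK i.val).testBit p.val = true
  LP ℓ u := blk F (fld 15 (D.LN ℓ) u)
  K ℓ u w := ((fld 2 (D.KT ℓ) (pidx (min u w) (max u w)) : ℕ) : ZMod 3)
  r0 := ⟨D.r0, F.r0⟩

theorem mk_strictMono (F : Facts M D) : ∀ i j, i < j → j < D.B → D.MK i < D.MK j := by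
  intro i j hij
  induction j with
  | zero => omega
  | succ j ih =>
    intro hj
    rcases Nat.lt_succ_iff_lt_or_eq.mp hij with h | h
    · exact lt_trans (ih h (by omega)) (F.mkm j hj)
    · rw [h]
      exact F.mkm j hj

theorem mk_lt (F : Facts M D) (i : ℕ) (hi : i < D.B) : D.MK i < 2 ^ M.n := by
  rcases Nat.lt_or_ge i (D.B - 1) with h | h
  · exact lt_trans (mk_strictMono F i (D.B - 1) h (by omega)) F.mkb
  · have : i = D.B - 1 := by omega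
    rw [this]
    exact F.mkb

theorem key_strictMono (F : Facts M D) : ∀ i j, i < j → j < D.B →
    Tabs.lkey (D.LN i) < Tabs.lkey (D.LN j) := by
  intro i j hij
  induction j with
  | zero => omega
  | succ j ih =>
    intro hj
    rcases Nat.lt_succ_iff_lt_or_eq.mp hij with h | h
    · exact lt_trans (ih h (by omega)) (F.key j hj)
    · rw [h]
      exact F.key j hj

theorem line_facts (F : Facts M D) (ℓ : ℕ) (hℓ : ℓ < D.B) :
    fld 15 (D.LN ℓ) 1 < fld 15 (D.LN ℓ) 2 ∧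
    (∀ u, 3 ≤ u → u ≤ 15 → fld 15 (D.LN ℓ) 2 < fld 15 (D.LN ℓ) u) ∧
    (∀ u, IsPos u → fld 15 (D.LN ℓ) u < D.B) ∧
    (∀ u w, IsPos u → IsPos w → fld 15 (D.LN ℓ) u = fld 15 (D.LN ℓ) w → u = w) := by
  obtain ⟨h1, h2, h3, h4⟩ := Tabs.chkLine1_spec (F.line ℓ hℓ)
  refine ⟨h1, h2, h3, ?_⟩
  intro u w hu hw e
  rcases Nat.lt_trichotomy u w with h | h | h
  · exact absurd e (h4 u w hu hw h)
  · exact h
  · exact absurd e.symm (h4 w u hw hu h)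

theorem lp_val (F : Facts M D) (ℓ : ℕ) (hℓ : ℓ < D.B) (u : ℕ) (hu : IsPos u) :
    ((setup F).LP ℓ u).val = fld 15 (D.LN ℓ) u :=
  blk_val F ((line_facts F ℓ hℓ).2.2.1 u hu)

theorem setup_LP_inj (F : Facts M D) : ∀ ℓ < (setup F).B, ∀ u w, IsPos u → IsPos w →
    (setup F).LP ℓ u = (setup F).LP ℓ w → u = w := by
  intro ℓ hℓ u w hu hw e
  have hℓ' : ℓ < D.B := hℓ
  apply (line_facts F ℓ hℓ').2.2.2 u w hu hw
  rw [← lp_val F ℓ hℓ' u hu, ← lp_val F ℓ hℓ' w hw, e]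

end Cfsg.Agent.Lib.Helper4.McLM
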