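import Cfsg.Agent.Lib.Helper4.McLM.Cov6

set_option autoImplicit false

/-! # The hypotheses of the abstract setup, from the facts on the tables -/

namespace Cfsg.Agent.Lib.Helper4.McLM

open Cfsg.Agent.Lib.Helper6.TC Cfsg.Agent.Lib.Helper6.PM

variable {M : PModel} {D : Tabs}

theorem mem_FS (F : Facts M D) (i : Fin D.B) (p : Fin M.n) :
    p ∈ (setup F).FS i ↔ (D.MK i.val).testBit p.val = true := by
  show p ∈ Finset.univ.filter (fun p : Fin M.n => (D.MK i.val).testBit p.val = true) ↔ _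
  rw [Finset.mem_filter]
  exact ⟨fun h => h.2, fun h => ⟨Finset.mem_univ _, h⟩⟩

theorem setup_FS_inj (F : Facts M D) : Function.Injective (setup F).FS := by
  intro i j hij
  have hi : (i : Fin D.B).val < D.B := i.isLt
  have hj : (j : Fin D.B).val < D.B := j.isLt
  have hbit : ∀ q, (D.MK i.val).testBit q = (D.MK j.val).testBit q := by
    intro q
    rcases Nat.lt_or_ge q M.n with hq | hq
    · have h1 : (⟨q, hq⟩ : Fin M.n) ∈ (setup F).FS i ↔ (⟨q, hq⟩ : Fin M.n) ∈ (setup F).FS j := by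
        rw [hij]
      rw [mem_FS F i, mem_FS F j] at h1
      exact Bool.eq_iff_iff.mpr h1
    · have h2 : ∀ x, x < 2 ^ M.n → x.testBit q = false := by
        intro x hx
        apply Nat.testBit_eq_false_of_lt
        exact lt_of_lt_of_le hx (Nat.pow_le_pow_right (by norm_num) hq)
      rw [h2 _ (mk_lt F _ hi), h2 _ (mk_lt F _ hj)]
  have hmk : D.MK i.val = D.MK j.val := Nat.eq_of_testBit_eq hbit
  apply Fin.ext
  rcases Nat.lt_trichotomy i.val j.val with h | h | h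
  · have := mk_strictMono F _ _ h hj
    omega
  · exact h
  · have := mk_strictMono F _ _ h hi
    omega

theorem gen_smul_val (F : Facts M D) (k : Fin 2) (p : Fin M.n) :
    ((M.elt [k.val])⁻¹ • p).val = D.A k.val p.val := by
  have hk : k.val < M.nl := lt_of_lt_of_le k.isLt F.hnl
  rw [M.inv_elt_smul_val [k.val] (by intro c hc; rw [List.mem_singleton] at hc; rw [hc]; exact hk),
    wapp_cons, wapp_nil, F.hA k.val k.isLt _ p.isLt]

theorem setup_FS_gen (F : Facts M D) : ∀ k i, ∀ p ∈ (setup F).FS i,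
    (setup F).gen k • p ∈ (setup F).FS ((setup F).bet k i) := by
  intro k (i : Fin D.B) (p : Fin M.n) hp
  have hp' : (D.MK i.val).testBit p.val = true := (mem_FS F i p).mp hp
  have h1 := F.fs k.val k.isLt _ i.isLt _ p.isLt hp'
  show (M.elt [k.val])⁻¹ • p ∈ (setup F).FS (betOf F k i)
  apply (mem_FS F _ _).mpr
  rw [gen_smul_val F, betOf_val]
  exact h1

theorem lkey_eq (x : ℕ) : Tabs.lkey x = fld 15 x 1 * 32768 + fld 15 x 2 := rfl

theorem setup_line_eq (F : Facts M D) : ∀ ℓ < (setup F).B, ∀ ℓ' < (setup F).B,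
    (∀ u, IsPos u → ∃ u', IsPos u' ∧ (setup F).LP ℓ' u' = (setup F).LP ℓ u) → ℓ' = ℓ := by
  intro ℓ hℓ ℓ' hℓ' h
  have hℓ : ℓ < D.B := hℓ
  have hℓ' : ℓ' < D.B := hℓ'
  obtain ⟨a12, a2, _, ainj⟩ := line_facts F ℓ hℓ
  obtain ⟨b12, b2, _, binj⟩ := line_facts F ℓ' hℓ'
  -- the statement on the numbers
  have h' : ∀ u, IsPos u → ∃ u', IsPos u' ∧ fld 15 (D.LN ℓ') u' = fld 15 (D.LN ℓ) u := by
    intro u hu
    obtain ⟨u', hu', e⟩ := h u hu
    refine ⟨u', hu', ?_⟩
    rw [← lp_val F ℓ' hℓ' u' hu', ← lp_val F ℓ hℓ u hu, e]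
  choose! f hf using h'
  -- `f` is onto the positions
  have hsurj : ∀ b ∈ Finset.Icc 1 15, ∃ a, ∃ (_ : a ∈ Finset.Icc 1 15), b = f a := by
    apply Finset.surj_on_of_inj_on_of_card_le (fun a _ => f a)
    · intro a ha
      rw [Finset.mem_Icc] at ha ⊢
      exact (hf a ha).1
    · intro a₁ a₂ ha₁ ha₂ e
      rw [Finset.mem_Icc] at ha₁ ha₂
      apply ainj a₁ a₂ ha₁ ha₂
      rw [← (hf a₁ ha₁).2, ← (hf a₂ ha₂).2, e]
    · exact le_refl _
  have hrev : ∀ u', IsPos u' → ∃ u, IsPos u ∧ fld 15 (D.LN ℓ') u' = fld 15 (D.LN ℓ) u := by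
    intro u' hu'
    obtain ⟨a, ha, e⟩ := hsurj u' (Finset.mem_Icc.mpr hu')
    rw [Finset.mem_Icc] at ha
    exact ⟨a, ha, by rw [e, (hf a ha).2]⟩
  -- the smallest blocks
  have amin : ∀ u, IsPos u → fld 15 (D.LN ℓ) 1 ≤ fld 15 (D.LN ℓ) u := by
    intro u hu
    obtain ⟨h1, h2⟩ := hu
    rcases Nat.lt_or_ge u 3 with h | h
    · have : u = 1 ∨ u = 2 := by omega
      rcases this with rfl | rfl
      · exact le_refl _
      · omega
    · have := a2 u h h2
      omega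
  have bmin : ∀ u, IsPos u → fld 15 (D.LN ℓ') 1 ≤ fld 15 (D.LN ℓ') u := by
    intro u hu
    obtain ⟨h1, h2⟩ := hu
    rcases Nat.lt_or_ge u 3 with h | h
    · have : u = 1 ∨ u = 2 := by omega
      rcases this with rfl | rfl
      · exact le_refl _
      · omega
    · have := b2 u h h2
      omega
  have amin2 : ∀ u, IsPos u → u ≠ 1 → fld 15 (D.LN ℓ) 2 ≤ fld 15 (D.LN ℓ) u := by
    intro u hu hu1
    obtain ⟨h1, h2⟩ := hu
    rcases Nat.lt_or_ge u 3 with h | h
    · have : u = 2 := by omega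
      rw [this]
    · have := a2 u h h2
      omega
  have bmin2 : ∀ u, IsPos u → u ≠ 1 → fld 15 (D.LN ℓ') 2 ≤ fld 15 (D.LN ℓ') u := by
    intro u hu hu1
    obtain ⟨h1, h2⟩ := hu
    rcases Nat.lt_or_ge u 3 with h | h
    · have : u = 2 := by omega
      rw [this]
    · have := b2 u h h2
      omega
  have p1 : IsPos 1 := ⟨le_refl _, by norm_num⟩
  have p2 : IsPos 2 := ⟨by norm_num, by norm_num⟩
  have e1 : fld 15 (D.LN ℓ') 1 = fld 15 (D.LN ℓ) 1 := by
    obtain ⟨hu', e⟩ := hf 1 p1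
    obtain ⟨u, hu, e'⟩ := hrev 1 p1
    have := bmin (f 1) hu'
    have := amin u hu
    omega
  have e2 : fld 15 (D.LN ℓ') 2 = fld 15 (D.LN ℓ) 2 := by
    obtain ⟨hu', e⟩ := hf 2 p2
    obtain ⟨u, hu, e'⟩ := hrev 2 p2
    have hu'1 : f 2 ≠ 1 := by
      intro h1
      rw [h1, e1] at e
      have := ainj 1 2 p1 p2 e
      omega
    have hu1 : u ≠ 1 := by
      intro h1
      rw [h1, ← e1] at e'
      have := binj 2 1 p2 p1 e'
      omega
    have := bmin2 (f 2) hu' hu'1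
    have := amin2 u hu hu1
    omega
  have ekey : Tabs.lkey (D.LN ℓ') = Tabs.lkey (D.LN ℓ) := by rw [lkey_eq, lkey_eq, e1, e2]
  rcases Nat.lt_trichotomy ℓ' ℓ with h | h | h
  · have := key_strictMono F _ _ h hℓ
    omega
  · exact h
  · have := key_strictMono F _ _ h hℓ'
    omega

end Cfsg.Agent.Lib.Helper4.McLM
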