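import Cfsg.Agent.Lib.Helper4.McLM.Cov7

set_option autoImplicit false

/-! # The invariant of the lines for the generators, connectivity, and the hypotheses -/

namespace Cfsg.Agent.Lib.Helper4.McLM

open Cfsg.Agent.Lib.Helper6.TC Cfsg.Agent.Lib.Helper6.PM

variable {M : PModel} {D : Tabs}

theorem cast_mod3 (a : ℕ) : ((a % 3 : ℕ) : ZMod 3) = (a : ZMod 3) := ZMod.natCast_mod a 3

theorem setup_K (F : Facts M D) (ℓ u w : ℕ) :
    (setup F).K ℓ u w = ((fld 2 (D.KT ℓ) (pidx (min u w) (max u w)) : ℕ) : ZMod 3) := rfl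

theorem setup_lab (F : Facts M D) (k : Fin 2) (i : Fin D.B) :
    (setup F).lab k i = ((D.T k.val i.val % 3 : ℕ) : ZMod 3) := rfl

theorem setup_P3_gen (F : Facts M D) : ∀ k, (setup F).P3 ((setup F).bet k) ((setup F).lab k) := by
  intro k ℓ hℓ
  have hℓ : ℓ < D.B := hℓ
  obtain ⟨ha, hb, hc⟩ := F.p3 k.val k.isLt ℓ hℓ
  have hpos : ∀ u, IsPos u → IsPos (tlS (D.TL k.val ℓ) u) := by
    intro u hu
    have h1 := (hb u hu).1
    have h2 : tlS (D.TL k.val ℓ) u < 2 ^ 4 := fld_lt 4 _ _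
    exact ⟨by omega, by omega⟩
  have hlab : ∀ u, IsPos u → (setup F).lab k ((setup F).LP ℓ u) =
      ((tlP (D.TL k.val ℓ) u : ℕ) : ZMod 3) := by
    intro u hu
    show ((D.T k.val (blk F (fld 15 (D.LN ℓ) u)).val % 3 : ℕ) : ZMod 3) = _
    rw [blk_val F ((line_facts F ℓ hℓ).2.2.1 u hu), (hb u hu).2.2]
  refine ⟨tlL (D.TL k.val ℓ), ha, tlS (D.TL k.val ℓ), ?_, ?_⟩
  · intro u hu
    refine ⟨hpos u hu, ?_⟩
    apply Fin.ext
    rw [lp_val F _ ha _ (hpos u hu), (hb u hu).2.1]
    show _ = (betOf F k (blk F (fld 15 (D.LN ℓ) u))).val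
    rw [betOf_val, blk_val F ((line_facts F ℓ hℓ).2.2.1 u hu)]
  · -- the case `u < w`
    have main : ∀ u w, IsPos u → IsPos w → u < w →
        tlS (D.TL k.val ℓ) (u ^^^ w) = tlS (D.TL k.val ℓ) u ^^^ tlS (D.TL k.val ℓ) w ∧
        (setup F).K (tlL (D.TL k.val ℓ)) (tlS (D.TL k.val ℓ) u) (tlS (D.TL k.val ℓ) w) =
          (setup F).K ℓ u w + (setup F).lab k ((setup F).LP ℓ u) +
            (setup F).lab k ((setup F).LP ℓ w) + (setup F).lab k ((setup F).LP ℓ (u ^^^ w)) := by
      intro u w hu hw huw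
      obtain ⟨c1, c2⟩ := hc u w hu hw huw
      refine ⟨c1, ?_⟩
      rw [setup_K, setup_K, c2, hlab u hu, hlab w hw,
        hlab _ (isPos_xor hu hw (Nat.ne_of_lt huw)), cast_mod3, min_eq_left huw.le,
        max_eq_right huw.le]
      push_cast
      ring
    intro u w hu hw huw
    rcases Nat.lt_or_gt_of_ne huw with h | h
    · exact main u w hu hw h
    · obtain ⟨c1, c2⟩ := main w u hw hu h
      refine ⟨?_, ?_⟩
      · rw [Nat.xor_comm u w, c1, Nat.xor_comm]
      · have e1 : (setup F).K (tlL (D.TL k.val ℓ)) (tlS (D.TL k.val ℓ) u) (tlS (D.TL k.val ℓ) w) =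
            (setup F).K (tlL (D.TL k.val ℓ)) (tlS (D.TL k.val ℓ) w) (tlS (D.TL k.val ℓ) u) := by
          rw [setup_K, setup_K, min_comm, max_comm]
        have e2 : (setup F).K ℓ u w = (setup F).K ℓ w u := by
          rw [setup_K, setup_K, min_comm, max_comm]
        rw [e1, e2, c2, Nat.xor_comm u w]
        ring

theorem setup_conn (F : Facts M D) : ∀ f : Fin (setup F).B → ZMod 3,
    (∀ ℓ < (setup F).B, ∀ u w, IsPos u → IsPos w →
      f ((setup F).LP ℓ u) = f ((setup F).LP ℓ w)) → ∀ i, f i = f (setup F).r0 := by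
  intro f hf
  have key : ∀ n, ∀ i : Fin D.B, D.RK i.val = n → f i = f (setup F).r0 := by
    intro n
    induction n using Nat.strong_induction_on with
    | _ n ih =>
      intro i hi
      by_cases hr : i.val = D.r0
      · have : i = (setup F).r0 := Fin.ext hr
        rw [this]
      · obtain ⟨ℓ, hℓ, u, w, hu0, hu16, hw0, hw16, e1, e2⟩ := F.conn i.val i.isLt hr
        have hu : IsPos u := ⟨by omega, by omega⟩
        have hw : IsPos w := ⟨by omega, by omega⟩
        have hi' : (setup F).LP ℓ u = i := by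
          apply Fin.ext
          rw [lp_val F ℓ hℓ u hu, e1]
        have hj : D.RK ((setup F).LP ℓ w).val < n := by
          rw [lp_val F ℓ hℓ w hw, ← hi]
          exact e2
        have := ih _ hj ((setup F).LP ℓ w) rfl
        rw [← hi', hf ℓ hℓ u w hu hw, this]
  intro i
  exact key _ i rfl

theorem setup_hyp (F : Facts M D) : (setup F).Hyp where
  hgen := F.gen
  hperf := F.perf
  FS_inj := setup_FS_inj F
  FS_gen := setup_FS_gen F
  LP_inj := setup_LP_inj F
  line_eq := setup_line_eq F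
  P3_gen := setup_P3_gen F
  conn := setup_conn F

end Cfsg.Agent.Lib.Helper4.McLM
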