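import Cfsg.Agent.Lib.Helper4.McLM.Cov8

set_option autoImplicit false

/-! # Words in the generators of the cover, and the existence of the cover -/

namespace Cfsg.Agent.Lib.Helper4.McLM

open Cfsg.Agent.Lib.Helper6.TC Cfsg.Agent.Lib.Helper6.PM

namespace Tabs

variable (D : Tabs)

/-- the action of a generator on a point `3 i + c` of the cover -/
noncomputable def step (k q : ℕ) : ℕ :=
  strictApp (fun v => Nat.add (Nat.mul 3 (Nat.div v 3))
    (Nat.mod (Nat.add (Nat.mod v 3) (Nat.mod q 3)) 3)) (D.T k (Nat.div q 3))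

theorem step_eq (k q : ℕ) :
    D.step k q = 3 * (D.T k (q / 3) / 3) + (D.T k (q / 3) % 3 + q % 3) % 3 := by
  unfold step
  rw [strictApp_eq]
  rfl

/-- the action of a word, the first letter acting first -/
noncomputable def wev : List ℕ → ℕ → ℕ
  | [], q => q
  | c :: w, q => strictApp (wev w) (D.step c q)

theorem wev_nil (q : ℕ) : D.wev [] q = q := rfl

theorem wev_cons (c : ℕ) (w : List ℕ) (q : ℕ) : D.wev (c :: w) q = D.wev w (D.step c q) := by
  show strictApp (D.wev w) (D.step c q) = _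
  rw [strictApp_eq]

end Tabs

variable {M : PModel} {D : Tabs}

/-- the further facts: a relation and the orders -/
structure Facts2 (M : PModel) (D : Tabs) : Prop where
  rel : ∃ w1 w2 : List (Fin 2), M.elt (w1.map Fin.val) = M.elt (w2.map Fin.val) ∧
    D.wev (w1.map Fin.val) (3 * D.r0) / 3 = D.wev (w2.map Fin.val) (3 * D.r0) / 3 ∧
    D.wev (w1.map Fin.val) (3 * D.r0) % 3 = (D.wev (w2.map Fin.val) (3 * D.r0) % 3 + 1) % 3
  ord : ∀ k : Fin 2, ∃ m : ℕ, Nat.Coprime m 3 ∧ M.elt (List.replicate m k.val) = 1 ∧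
    D.wev (List.replicate m k.val) (3 * D.r0) = 3 * D.r0

/-- the point of the cover of a number -/
def pt (F : Facts M D) (q : ℕ) : (setup F).Om := (blk F (q / 3), ((q % 3 : ℕ) : ZMod 3))

theorem X_pt (F : Facts M D) (k : Fin 2) (q : ℕ) (hq : q / 3 < D.B) :
    (setup F).X k (pt F q) = pt F (D.step k.val q) ∧ D.step k.val q / 3 < D.B := by
  have hr : (D.T k.val (q / 3) % 3 + q % 3) % 3 < 3 := Nat.mod_lt _ (by norm_num)
  have h1 : D.step k.val q / 3 = D.T k.val (q / 3) / 3 := by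
    rw [D.step_eq]
    omega
  have h2 : D.step k.val q % 3 = (D.T k.val (q / 3) % 3 + q % 3) % 3 := by
    rw [D.step_eq]
    omega
  refine ⟨?_, ?_⟩
  · apply Prod.ext
    · show betOf F k (blk F (q / 3)) = blk F (D.step k.val q / 3)
      apply Fin.ext
      rw [betOf_val, blk_val F hq, h1, blk_val F (F.inv k.val k.isLt _ hq).1]
    · show ((q % 3 : ℕ) : ZMod 3) + ((D.T k.val (blk F (q / 3)).val % 3 : ℕ) : ZMod 3) =
        ((D.step k.val q % 3 : ℕ) : ZMod 3)
      rw [blk_val F hq, h2]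
      simp only [cast_mod3, Nat.cast_add]
      ring
  · rw [h1]
    exact (F.inv k.val k.isLt _ hq).1

theorem gw_pt (F : Facts M D) (w : List (Fin 2)) : ∀ q, q / 3 < D.B →
    ((setup F).gw w).2 (pt F q) = pt F (D.wev (w.map Fin.val) q) ∧
      D.wev (w.map Fin.val) q / 3 < D.B := by
  induction w with
  | nil =>
    intro q hq
    exact ⟨rfl, hq⟩
  | cons c w ih =>
    intro q hq
    obtain ⟨h1, h2⟩ := X_pt F c q hq
    obtain ⟨h3, h4⟩ := ih _ h2
    rw [List.map_cons, Tabs.wev_cons]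
    refine ⟨?_, h4⟩
    show ((setup F).gw w).2 ((setup F).X c (pt F q)) = _
    rw [h1, h3]

theorem elt_replicate (M : PModel) (k m : ℕ) : M.elt (List.replicate m k) = (M.elt [k]) ^ m := by
  induction m with
  | zero => rw [List.replicate_zero, M.elt_nil, pow_zero]
  | succ m ih => rw [List.replicate_succ, M.elt_cons, ih, pow_succ']

theorem gw_fst (F : Facts M D) (w : List (Fin 2)) :
    ((setup F).gw w).1 = (M.elt (w.map Fin.val))⁻¹ := by
  induction w with
  | nil =>
    show (1 : M.G) = (M.elt [])⁻¹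
    rw [M.elt_nil, inv_one]
  | cons c w ih =>
    have h : ((setup F).gw (c :: w)).1 = ((setup F).gw w).1 * (setup F).gen c := rfl
    rw [h, ih]
    show (M.elt (w.map Fin.val))⁻¹ * (M.elt [c.val])⁻¹ = _
    rw [List.map_cons, M.elt_cons c.val (w.map Fin.val), mul_inv_rev]

theorem gw_replicate (F : Facts M D) (k : Fin 2) (m : ℕ) :
    (setup F).gw (List.replicate m k) = ((setup F).Gn k) ^ m := by
  induction m with
  | zero =>
    rw [pow_zero]
    rfl
  | succ m ih =>
    rw [List.replicate_succ, pow_succ, ← ih]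
    rfl

theorem pt_r0 (F : Facts M D) : pt F (3 * D.r0) = ((setup F).r0, 0) := by
  apply Prod.ext
  · apply Fin.ext
    show (blk F (3 * D.r0 / 3)).val = D.r0
    rw [Nat.mul_div_cancel_left _ (by norm_num : 0 < 3), blk_val F F.r0]
  · show ((3 * D.r0 % 3 : ℕ) : ZMod 3) = 0
    rw [Nat.mul_mod_right]
    rfl

theorem setup_hyp2 (F : Facts M D) (F2 : Facts2 M D) : (setup F).Hyp2 where
  hrel := by
    obtain ⟨w1, w2, e, h1, h2⟩ := F2.rel
    have hq : 3 * D.r0 / 3 < D.B := by
      rw [Nat.mul_div_cancel_left _ (by norm_num : 0 < 3)]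
      exact F.r0
    refine ⟨w1, w2, by rw [gw_fst, gw_fst, e],
      blk F (D.wev (w2.map Fin.val) (3 * D.r0) / 3),
      ((D.wev (w2.map Fin.val) (3 * D.r0) % 3 : ℕ) : ZMod 3), ?_, ?_⟩
    · rw [← pt_r0 F, (gw_pt F w1 _ hq).1, pt, h1, h2, cast_mod3]
      push_cast
      rfl
    · rw [← pt_r0 F, (gw_pt F w2 _ hq).1, pt]
  hord := by
    intro k
    obtain ⟨m, hm, h1, h2⟩ := F2.ord k
    refine ⟨m, hm, ?_, ?_⟩
    · show ((M.elt [k.val])⁻¹) ^ m = 1
      rw [inv_pow, ← elt_replicate, h1, inv_one]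
    · have hq : 3 * D.r0 / 3 < D.B := by
        rw [Nat.mul_div_cancel_left _ (by norm_num : 0 < 3)]
        exact F.r0
      have h3 := (gw_pt F (List.replicate m k) _ hq).1
      rw [List.map_replicate, h2, gw_replicate, pt_r0] at h3
      exact h3

/-- the existence of the cover -/
theorem exists_cover (F : Facts M D) (F2 : Facts2 M D) :
    ∃ (Γ₀ : Type) (_ : Group Γ₀) (_ : Finite Γ₀) (σ₀ : Γ₀ →* M.G),
      Cfsg.IsStemExtension σ₀ ∧ Nonempty (σ₀.ker ≃* Multiplicative (ZMod 3)) :=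
  ⟨(setup F).D, inferInstance, inferInstance, (setup F).sig,
    (setup F).isStem (setup_hyp F) (setup_hyp2 F F2),
    ⟨(setup F).kerEquiv (setup_hyp F) (setup_hyp2 F F2)⟩⟩

end Cfsg.Agent.Lib.Helper4.McLM
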