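import Cfsg.Agent.Lib.Helper4.McLM.Tabs
import Cfsg.Agent.Lib.Helper4.McLM.Cov9
import Cfsg.Agent.Lib.Helper7.McLB9
import Cfsg.Agent.Lib.Helper6.Mult.PM4

set_option autoImplicit false
set_option maxRecDepth 1000000

/-! # The McLaughlin group on 275 points: the two generators, perfectness, a relation -/

namespace Cfsg.Agent.Lib.Helper4.McLM

open Cfsg.Agent.Lib.Helper6.TC Cfsg.Agent.Lib.Helper6.PM
open Cfsg.Agent.Lib.Helper7.McLB (pm ds mclS mclS_nl isSimpleGroup_McL)

/-- the words of letters of the model -/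
def OKw (w : List ℕ) : Prop := ∀ c ∈ w, c < 19

theorem OKw.nl {w : List ℕ} (h : OKw w) : ∀ c ∈ w, c < mclS.nl := by
  intro c hc
  rw [mclS_nl]
  exact h c hc

theorem elt_eq {w w' : List ℕ} (hw : OKw w) (hw' : OKw w')
    (h : ∀ q < 275, wapp pm w q = wapp pm w' q) : mclS.elt w = mclS.elt w' :=
  mclS.elt_eq_of_wapp w w' hw.nl hw'.nl h

theorem chkA : allB (fun p => band (Nat.beq (Dat.A0 p) (pm 0 p)) (Nat.beq (Dat.A1 p) (pm 1 p))) 275 =
    true := by decide +kernel

theorem hA : ∀ k < 2, ∀ p < mclS.n, mclTabs.A k p = mclS.px k p := by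
  intro k hk p hp
  have := allB_spec chkA p hp
  simp only [band_eq_true, Nat.beq_eq] at this
  interval_cases k
  · exact this.1
  · exact this.2

theorem slp_ok : ∀ k < 15, (∀ c ∈ ds.getD k [], c < 4 + k) ∧
    ∀ q < 275, wapp pm (ds.getD k []) q = pm (4 + k) q := by decide +kernel

theorem inv_ok : ∀ q < 275, pm 2 (pm 0 q) = q ∧ pm 3 (pm 1 q) = q := by decide +kernel

/-- the subgroup generated by the inverses of the first two letters -/
noncomputable def H2 : Subgroup mclS.G := Subgroup.closure {(mclS.elt [0])⁻¹, (mclS.elt [1])⁻¹}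

theorem elt_mem_of_letters (w : List ℕ) (h : ∀ c ∈ w, mclS.elt [c] ∈ H2) : mclS.elt w ∈ H2 := by
  induction w with
  | nil =>
    rw [mclS.elt_nil]
    exact Subgroup.one_mem _
  | cons c w ih =>
    rw [mclS.elt_cons]
    exact Subgroup.mul_mem _ (h c List.mem_cons_self)
      (ih (fun c' hc' => h c' (List.mem_cons_of_mem _ hc')))

theorem ok_single {c : ℕ} (h : c < 19) : OKw [c] := by
  intro c' hc'
  rw [List.mem_singleton] at hc'
  omega

theorem letter_mem : ∀ c < 19, mclS.elt [c] ∈ H2 := by
  intro c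
  induction c using Nat.strong_induction_on with
  | _ c ih =>
    intro hc
    have h0 : mclS.elt [0] ∈ H2 := by
      have : (mclS.elt [0])⁻¹ ∈ H2 := Subgroup.subset_closure (Or.inl rfl)
      simpa using Subgroup.inv_mem _ this
    have h1 : mclS.elt [1] ∈ H2 := by
      have : (mclS.elt [1])⁻¹ ∈ H2 := Subgroup.subset_closure (Or.inr rfl)
      simpa using Subgroup.inv_mem _ this
    rcases Nat.lt_or_ge c 4 with h4 | h4
    · interval_cases c
      · exact h0
      · exact h1
      · have e : mclS.elt [0, 2] = mclS.elt [] := by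
          apply elt_eq (by intro c hc; simp at hc; omega) (by intro c hc; simp at hc)
          intro q hq
          exact (inv_ok q hq).1
        rw [mclS.elt_cons, mclS.elt_nil] at e
        rw [eq_inv_of_mul_eq_one_right e]
        exact Subgroup.subset_closure (Or.inl rfl)
      · have e : mclS.elt [1, 3] = mclS.elt [] := by
          apply elt_eq (by intro c hc; simp at hc; omega) (by intro c hc; simp at hc)
          intro q hq
          exact (inv_ok q hq).2
        rw [mclS.elt_cons, mclS.elt_nil] at e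
        rw [eq_inv_of_mul_eq_one_right e]
        exact Subgroup.subset_closure (Or.inr rfl)
    · obtain ⟨hl, hq⟩ := slp_ok (c - 4) (by omega)
      have e4 : 4 + (c - 4) = c := by omega
      rw [e4] at hl hq
      have e : mclS.elt [c] = mclS.elt (ds.getD (c - 4) []) := by
        apply elt_eq (ok_single hc) (by intro c' hc'; have := hl c' hc'; omega)
        intro q hq'
        rw [wapp_cons, wapp_nil, hq q hq']
      rw [e]
      apply elt_mem_of_letters
      intro c' hc'
      exact ih c' (hl c' hc') (by have := hl c' hc'; omega)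

theorem gen_top : Subgroup.closure {(mclS.elt [0])⁻¹, (mclS.elt [1])⁻¹} = ⊤ := by
  rw [eq_top_iff, ← mclS.closure_letters, Subgroup.closure_le]
  rintro g ⟨c, hc, rfl⟩
  rw [mclS_nl] at hc
  exact letter_mem c hc

theorem perf : commutator mclS.G = ⊤ := by
  haveI : IsSimpleGroup mclS.G := isSimpleGroup_McL
  apply perfect_of_simple (mclS.elt [0]) (mclS.elt [1])
  intro h
  have e : mclS.elt [0, 1] = mclS.elt [1, 0] := by
    rw [mclS.elt_cons 0 [1], mclS.elt_cons 1 [0], h]
  have h1 := mclS.inv_elt_smul_val [0, 1] (OKw.nl (by intro c hc; simp at hc; omega)) ⟨0, by decide⟩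
  have h2 := mclS.inv_elt_smul_val [1, 0] (OKw.nl (by intro c hc; simp at hc; omega)) ⟨0, by decide⟩
  rw [e, h2] at h1
  revert h1
  show wapp pm [1, 0] 0 = wapp pm [0, 1] 0 → False
  decide +kernel

/-- the relation lifting to the central element -/
def rw1 : List (Fin 2) := [0, 0, 1, 1, 1, 0, 1, 0, 0, 1, 1, 1, 1, 0]
/-- the other side of the relation -/
def rw2 : List (Fin 2) := [1, 1, 1, 0, 0, 0, 1, 1, 0, 0, 1, 1, 1]

theorem ok_map (w : List (Fin 2)) : OKw (w.map Fin.val) := by
  intro c hc
  rw [List.mem_map] at hc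
  obtain ⟨x, _, rfl⟩ := hc
  have := x.isLt
  omega

theorem rel_tab : ∀ q < 275, wapp pm (rw1.map Fin.val) q = wapp pm (rw2.map Fin.val) q := by
  decide +kernel

theorem rel_elt : mclS.elt (rw1.map Fin.val) = mclS.elt (rw2.map Fin.val) :=
  elt_eq (ok_map _) (ok_map _) rel_tab

theorem rel_wev :
    mclTabs.wev (rw1.map Fin.val) (3 * mclTabs.r0) / 3 =
      mclTabs.wev (rw2.map Fin.val) (3 * mclTabs.r0) / 3 ∧
    mclTabs.wev (rw1.map Fin.val) (3 * mclTabs.r0) % 3 =
      (mclTabs.wev (rw2.map Fin.val) (3 * mclTabs.r0) % 3 + 1) % 3 := by decide +kernel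

theorem ord_tab : (∀ q < 275, wapp pm (List.replicate 14 0) q = q) ∧
    (∀ q < 275, wapp pm (List.replicate 8 1) q = q) := by decide +kernel

theorem ord_wev : mclTabs.wev (List.replicate 14 0) (3 * mclTabs.r0) = 3 * mclTabs.r0 ∧
    mclTabs.wev (List.replicate 8 1) (3 * mclTabs.r0) = 3 * mclTabs.r0 := by decide +kernel

theorem mclFacts2 : Facts2 mclS mclTabs where
  rel := ⟨rw1, rw2, rel_elt, rel_wev.1, rel_wev.2⟩
  ord := by
    intro k
    fin_cases k
    · refine ⟨14, by decide, ?_, ord_wev.1⟩
      rw [← mclS.elt_nil]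
      apply elt_eq (by intro c hc; rw [List.mem_replicate] at hc; omega) (by intro c hc; simp at hc)
      intro q hq
      exact ord_tab.1 q hq
    · refine ⟨8, by decide, ?_, ord_wev.2⟩
      rw [← mclS.elt_nil]
      apply elt_eq (by intro c hc; rw [List.mem_replicate] at hc; omega) (by intro c hc; simp at hc)
      intro q hq
      exact ord_tab.2 q hq

end Cfsg.Agent.Lib.Helper4.McLM
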