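import Cfsg.Agent.Lib.Helper4.McLM.Chk.CInv
import Cfsg.Agent.Lib.Helper4.McLM.Chk.CFS0
import Cfsg.Agent.Lib.Helper4.McLM.Chk.CFS1
import Cfsg.Agent.Lib.Helper4.McLM.Chk.CFS2
import Cfsg.Agent.Lib.Helper4.McLM.Chk.CFS3
import Cfsg.Agent.Lib.Helper4.McLM.Chk.CFS4
import Cfsg.Agent.Lib.Helper4.McLM.Chk.CFS5
import Cfsg.Agent.Lib.Helper4.McLM.Chk.CLine
import Cfsg.Agent.Lib.Helper4.McLM.Chk.CP3_0
import Cfsg.Agent.Lib.Helper4.McLM.Chk.CP3_1
import Cfsg.Agent.Lib.Helper4.McLM.Chk.CP3_2
import Cfsg.Agent.Lib.Helper4.McLM.Chk.CP3_3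
import Cfsg.Agent.Lib.Helper4.McLM.Chk.CP3_4
import Cfsg.Agent.Lib.Helper4.McLM.Chk.CP3_5
import Cfsg.Agent.Lib.Helper4.McLM.Chk.CP3_6
import Cfsg.Agent.Lib.Helper4.McLM.Chk.CP3_7
import Cfsg.Agent.Lib.Helper4.McLM.Chk.CP3_8
import Cfsg.Agent.Lib.Helper4.McLM.Glue
set_option autoImplicit false
namespace Cfsg.Agent.Lib.Helper4.McLM
open Cfsg.Agent.Lib.Helper7.McLB (mclS mclS_nl)

/-- the facts on the tables of the cover of the McLaughlin group -/
theorem mclFacts : Facts mclS mclTabs where
  hB := by show 0 < 22275; norm_num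
  hnl := by rw [mclS_nl]; norm_num
  inv := by
    intro k hk i hi
    have hi' : i < 22275 := hi
    interval_cases k
    · exact mclTabs.chkInv_spec c_inv0 i (Nat.zero_le _) (by omega)
    · exact mclTabs.chkInv_spec c_inv1 i (Nat.zero_le _) (by omega)
  hA := hA
  fs := by
    intro k hk i hi
    have hi' : i < 22275 := hi
    interval_cases k
    · rcases Nat.lt_or_ge i 4000 with h0 | h0
      · exact mclTabs.chkFS_spec c_fs0_0 i (by omega) (by omega)
      rcases Nat.lt_or_ge i 8000 with h1 | h1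
      · exact mclTabs.chkFS_spec c_fs0_1 i (by omega) (by omega)
      rcases Nat.lt_or_ge i 12000 with h2 | h2
      · exact mclTabs.chkFS_spec c_fs0_2 i (by omega) (by omega)
      rcases Nat.lt_or_ge i 16000 with h3 | h3
      · exact mclTabs.chkFS_spec c_fs0_3 i (by omega) (by omega)
      rcases Nat.lt_or_ge i 20000 with h4 | h4
      · exact mclTabs.chkFS_spec c_fs0_4 i (by omega) (by omega)
      exact mclTabs.chkFS_spec c_fs0_5 i (by omega) (by omega)
    · rcases Nat.lt_or_ge i 4000 with h0 | h0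
      · exact mclTabs.chkFS_spec c_fs1_0 i (by omega) (by omega)
      rcases Nat.lt_or_ge i 8000 with h1 | h1
      · exact mclTabs.chkFS_spec c_fs1_1 i (by omega) (by omega)
      rcases Nat.lt_or_ge i 12000 with h2 | h2
      · exact mclTabs.chkFS_spec c_fs1_2 i (by omega) (by omega)
      rcases Nat.lt_or_ge i 16000 with h3 | h3
      · exact mclTabs.chkFS_spec c_fs1_3 i (by omega) (by omega)
      rcases Nat.lt_or_ge i 20000 with h4 | h4
      · exact mclTabs.chkFS_spec c_fs1_4 i (by omega) (by omega)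
      exact mclTabs.chkFS_spec c_fs1_5 i (by omega) (by omega)
  mkm := by
    intro i hi
    have hi' : i + 1 < 22275 := hi
    exact mclTabs.chkMK_spec c_mk i (Nat.zero_le _) (by omega)
  mkb := by
    have := c_mkb
    rw [Nat.blt_eq] at this
    exact this
  line := by
    intro i hi
    have hi' : i < 22275 := hi
    rcases Nat.lt_or_ge i 6000 with h0 | h0
    · exact mclTabs.chkLine_spec c_line_0 i (by omega) (by omega)
    rcases Nat.lt_or_ge i 12000 with h1 | h1
    · exact mclTabs.chkLine_spec c_line_1 i (by omega) (by omega)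
    rcases Nat.lt_or_ge i 18000 with h2 | h2
    · exact mclTabs.chkLine_spec c_line_2 i (by omega) (by omega)
    exact mclTabs.chkLine_spec c_line_3 i (by omega) (by omega)
  key := by
    intro i hi
    have hi' : i + 1 < 22275 := hi
    exact mclTabs.chkKey_spec c_key i (Nat.zero_le _) (by omega)
  p3 := by
    intro k hk i hi
    have hi' : i < 22275 := hi
    interval_cases k
    · rcases Nat.lt_or_ge i 2500 with h0 | h0
      · exact mclTabs.chkP3_spec c_p3_0_0 i (by omega) (by omega)
      rcases Nat.lt_or_ge i 5000 with h1 | h1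
      · exact mclTabs.chkP3_spec c_p3_0_1 i (by omega) (by omega)
      rcases Nat.lt_or_ge i 7500 with h2 | h2
      · exact mclTabs.chkP3_spec c_p3_0_2 i (by omega) (by omega)
      rcases Nat.lt_or_ge i 10000 with h3 | h3
      · exact mclTabs.chkP3_spec c_p3_0_3 i (by omega) (by omega)
      rcases Nat.lt_or_ge i 12500 with h4 | h4
      · exact mclTabs.chkP3_spec c_p3_0_4 i (by omega) (by omega)
      rcases Nat.lt_or_ge i 15000 with h5 | h5
      · exact mclTabs.chkP3_spec c_p3_0_5 i (by omega) (by omega)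
      rcases Nat.lt_or_ge i 17500 with h6 | h6
      · exact mclTabs.chkP3_spec c_p3_0_6 i (by omega) (by omega)
      rcases Nat.lt_or_ge i 20000 with h7 | h7
      · exact mclTabs.chkP3_spec c_p3_0_7 i (by omega) (by omega)
      exact mclTabs.chkP3_spec c_p3_0_8 i (by omega) (by omega)
    · rcases Nat.lt_or_ge i 2500 with h0 | h0
      · exact mclTabs.chkP3_spec c_p3_1_0 i (by omega) (by omega)
      rcases Nat.lt_or_ge i 5000 with h1 | h1
      · exact mclTabs.chkP3_spec c_p3_1_1 i (by omega) (by omega)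
      rcases Nat.lt_or_ge i 7500 with h2 | h2
      · exact mclTabs.chkP3_spec c_p3_1_2 i (by omega) (by omega)
      rcases Nat.lt_or_ge i 10000 with h3 | h3
      · exact mclTabs.chkP3_spec c_p3_1_3 i (by omega) (by omega)
      rcases Nat.lt_or_ge i 12500 with h4 | h4
      · exact mclTabs.chkP3_spec c_p3_1_4 i (by omega) (by omega)
      rcases Nat.lt_or_ge i 15000 with h5 | h5
      · exact mclTabs.chkP3_spec c_p3_1_5 i (by omega) (by omega)
      rcases Nat.lt_or_ge i 17500 with h6 | h6
      · exact mclTabs.chkP3_spec c_p3_1_6 i (by omega) (by omega)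
      rcases Nat.lt_or_ge i 20000 with h7 | h7
      · exact mclTabs.chkP3_spec c_p3_1_7 i (by omega) (by omega)
      exact mclTabs.chkP3_spec c_p3_1_8 i (by omega) (by omega)
  conn := by
    intro i hi hr
    have hi' : i < 22275 := hi
    exact mclTabs.chkConn_spec c_conn i (Nat.zero_le _) (by omega) hr
  r0 := by show 11693 < 22275; norm_num
  gen := gen_top
  perf := perf

/-- the triple cover of the McLaughlin group -/
theorem exists_cover_McL :
    ∃ (Γ₀ : Type) (_ : Group Γ₀) (_ : Finite Γ₀) (σ₀ : Γ₀ →* mclS.G),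
      Cfsg.IsStemExtension σ₀ ∧ Nonempty (σ₀.ker ≃* Multiplicative (ZMod 3)) :=
  exists_cover mclFacts mclFacts2

end Cfsg.Agent.Lib.Helper4.McLM
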