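import Cfsg.Agent.Lib.Helper4.McLM.Exist
import Cfsg.Agent.Lib.Helper1.Stem21

set_option autoImplicit false

/-! # The multiplier of the McLaughlin group from a bound on the kernels of stem extensions -/

namespace Cfsg.Agent.Lib.Helper4.McLM

open Cfsg.Agent.Lib.Helper7.McLB (mclS)

/-- the commutator subgroup of the McLaughlin group is the whole group -/
theorem commutator_McL : commutator ↥Cfsg.Spor.McL = ⊤ := mclFacts.perf

/-- the multiplier of the McLaughlin group is cyclic of order 3 as soon as the kernels of its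
stem extensions have at most 3 elements -/
theorem multiplier_of_bound
    (hub : ∀ (Γ : Type) [Group Γ] [Finite Γ] (σ : Γ →* ↥Cfsg.Spor.McL),
      Cfsg.IsStemExtension σ → Nat.card σ.ker ≤ 3) :
    Cfsg.HasCyclicSchurMultiplier ↥Cfsg.Spor.McL 3 := by
  obtain ⟨Γ₀, i1, i2, σ₀, h₀, ⟨e⟩⟩ := exists_cover_McL
  have hc : Nat.card (Multiplicative (ZMod 3)) = 3 := by
    rw [Nat.card_eq_fintype_card]
    rfl
  exact Cfsg.Agent.Lib.Helper1.Stem.hasSchurMultiplier_of_cover_of_bound
    (MulEquiv.refl ↥Cfsg.Spor.McL) commutator_McL (Multiplicative (ZMod 3)) σ₀ h₀ e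
    (fun Γ' _ _ σ' hσ' => by rw [hc]; exact hub Γ' σ' hσ')

/-- the same from a divisibility bound -/
theorem multiplier_of_dvd
    (hub : ∀ (Γ : Type) [Group Γ] [Finite Γ] (σ : Γ →* ↥Cfsg.Spor.McL),
      Cfsg.IsStemExtension σ → Nat.card σ.ker ∣ 3) :
    Cfsg.HasCyclicSchurMultiplier ↥Cfsg.Spor.McL 3 :=
  multiplier_of_bound fun Γ _ _ σ hσ => Nat.le_of_dvd (by norm_num) (hub Γ σ hσ)

end Cfsg.Agent.Lib.Helper4.McLM
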