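import Cfsg.Agent.Lib.Helper4.McLM.Dat.T0
import Cfsg.Agent.Lib.Helper4.McLM.Dat.T0i
import Cfsg.Agent.Lib.Helper4.McLM.Dat.T1
import Cfsg.Agent.Lib.Helper4.McLM.Dat.T1i
import Cfsg.Agent.Lib.Helper4.McLM.Dat.A0
import Cfsg.Agent.Lib.Helper4.McLM.Dat.A1
import Cfsg.Agent.Lib.Helper4.McLM.Dat.MK
import Cfsg.Agent.Lib.Helper4.McLM.Dat.LN
import Cfsg.Agent.Lib.Helper4.McLM.Dat.KT
import Cfsg.Agent.Lib.Helper4.McLM.Dat.TL0
import Cfsg.Agent.Lib.Helper4.McLM.Dat.TL1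
import Cfsg.Agent.Lib.Helper4.McLM.Dat.RK
import Cfsg.Agent.Lib.Helper4.McLM.Dat.PR
import Cfsg.Agent.Lib.Helper4.McLM.Cov5
set_option autoImplicit false
namespace Cfsg.Agent.Lib.Helper4.McLM
open Dat
/-- the tables of the triple cover of the McLaughlin group on the 22275 involutions -/
noncomputable def mclTabs : Tabs where
  n := 275
  B := 22275
  T k i := Nat.rec (motive := fun _ => Nat) (T0 i) (fun _ _ => T1 i) k
  Ti k i := Nat.rec (motive := fun _ => Nat) (T0i i) (fun _ _ => T1i i) k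
  A k i := Nat.rec (motive := fun _ => Nat) (A0 i) (fun _ _ => A1 i) k
  MK := MK
  LN := LN
  KT := KT
  TL k i := Nat.rec (motive := fun _ => Nat) (TL0 i) (fun _ _ => TL1 i) k
  RK := RK
  PR := PR
  r0 := 11693
end Cfsg.Agent.Lib.Helper4.McLM
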